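import Mathlib
import Groth.Agent.Lib.Helper7.GeomConn.CompCount
import Groth.Agent.Lib.Helper7.LimConsPI.Main
import Groth.Agent.Lib.Helper4.GCLocCons1
import Groth.Agent.Lib.Helper7.ProConsLib5

set_option linter.style.haveILetI false
set_option linter.unusedVariables false
set_option linter.unusedSectionVars false
set_option autoImplicit false
set_option backward.isDefEq.respectTransparency.types false
set_option synthInstance.maxHeartbeats 400000
set_option maxHeartbeats 1600000

universe u

/-! helper7: connectedness of all geometric fibres descends from a cofiltered limit of Noetherian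
schemes to a finite stage (constructibility of the number of geometric connected components and
compactness of the constructible topology). -/

open CategoryTheory AlgebraicGeometry TopologicalSpace Opposite Limits

namespace Groth.Agent.Helper7.LimGC

open Groth.Agent.Helper7.GeomConn

/-- the number of connected components of the geometric fibre of a scheme over a separably closed
field is the number of its connected components. -/
theorem nGeomConnComp_of_isSepClosed {Ω : Type u} [Field Ω] [IsSepClosed Ω] {X' : Scheme.{u}}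
    (f' : X' ⟶ Spec (CommRingCat.of Ω)) (pt : ↥(Spec (CommRingCat.of Ω))) :
    MoreMor.nGeomConnComp f' pt = ENat.card (_root_.ConnectedComponents ↥X') := by
  unfold MoreMor.nGeomConnComp MoreMor.geomFiber
  let b := f'.fiberToSpecResidueField pt
  let i := Spec.map (CommRingCat.ofHom
    (algebraMap ((Spec (CommRingCat.of Ω)).residueField pt)
      (SeparableClosure ((Spec (CommRingCat.of Ω)).residueField pt))))
  let r := (Spec (CommRingCat.of Ω)).fromSpecResidueField pt
  let ψ : CommRingCat.of Ω ⟶
      CommRingCat.of (SeparableClosure ((Spec (CommRingCat.of Ω)).residueField pt)) :=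
    Spec.preimage (i ≫ r)
  have hψ : Spec.map ψ = i ≫ r := Spec.map_preimage _
  let τ : pullback b i ⟶ X' := pullback.fst b i ≫ f'.fiberι pt
  have hpb : IsPullback τ (pullback.snd b i) f' (Spec.map ψ) := by
    rw [hψ]
    exact (IsPullback.of_hasPullback b i).paste_horiz (IsPullback.of_hasPullback f' r)
  exact ENat.card_congr (Equiv.ofBijective _
    (connectedComponentsMap_bijective_of_isSepClosed ψ f' (pullback.snd b i) τ hpb))

/-- the number of geometric connected components of the fibre over the image of a geometric point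
is the number of connected components of the pullback along that geometric point. -/
theorem nGeomConnComp_eq_card {X Y : Scheme.{u}} (f : X ⟶ Y) {Ω : Type u} [Field Ω]
    [IsSepClosed Ω] (t : Spec (CommRingCat.of Ω) ⟶ Y) (pt : ↥(Spec (CommRingCat.of Ω))) :
    MoreMor.nGeomConnComp f (t pt) =
      ENat.card (_root_.ConnectedComponents ↥(pullback f t)) := by
  rw [← nGeomConnComp_baseChange f (pullback.snd f t) (pullback.fst f t) t
    (IsPullback.of_hasPullback f t) pt]
  exact nGeomConnComp_of_isSepClosed (pullback.snd f t) pt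

theorem preconnectedSpace_iff_card_le_one (α : Type*) [TopologicalSpace α] :
    PreconnectedSpace α ↔ ENat.card (_root_.ConnectedComponents α) ≤ 1 := by
  rw [ENat.card_le_one_iff_subsingleton]
  constructor
  · intro h
    infer_instance
  · intro h
    constructor
    rcases isEmpty_or_nonempty α with he | ⟨⟨x⟩⟩
    · have : (Set.univ : Set α) = ∅ := Set.eq_empty_of_isEmpty _
      rw [this]; exact isPreconnected_empty
    · have : (Set.univ : Set α) = connectedComponent x := by
        ext z
        simp only [Set.mem_univ, true_iff]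
        have h1 : connectedComponent z = connectedComponent x :=
          ConnectedComponents.coe_eq_coe.mp (Subsingleton.elim _ _)
        rw [← h1]; exact mem_connectedComponent
      rw [this]; exact isPreconnected_connectedComponent

variable {I : Type u} [SmallCategory I] [IsCofiltered I]

theorem main (D : I ⥤ Scheme.{u}) (c : Limits.Cone D) (hc : Limits.IsLimit c)
    [∀ (i j : I) (a : i ⟶ j), IsAffineHom (D.map a)]
    [∀ i : I, AlgebraicGeometry.IsNoetherian (D.obj i)]
    (i₀ : I) {X₀ : Scheme.{u}} (f₀ : X₀ ⟶ D.obj i₀) [QuasiCompact f₀] [LocallyOfFiniteType f₀]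
    {X : Scheme.{u}} (f : X ⟶ c.pt) (q : X ⟶ X₀) (hX : IsPullback q f f₀ (c.π.app i₀))
    (hconn : ∀ (Ω : Type u) [Field Ω] [IsAlgClosed Ω] (t : Spec (CommRingCat.of Ω) ⟶ c.pt),
      PreconnectedSpace ↥(Limits.pullback f t)) :
    ∃ (i : I) (a : i ⟶ i₀), ∀ (Ω : Type u) [Field Ω] [IsAlgClosed Ω]
      (t : Spec (CommRingCat.of Ω) ⟶ D.obj i),
      PreconnectedSpace ↥(Limits.pullback f₀ (t ≫ D.map a)) := by
  haveI hD : ∀ {i j : I} (a : i ⟶ j), IsAffineHom (D.map a) := fun a => inferInstance
  haveI : IsLocallyNoetherian X₀ := LocallyOfFiniteType.isLocallyNoetherian f₀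
  haveI : QuasiSeparated f₀ := inferInstance
  haveI : LocallyOfFinitePresentation f₀ := inferInstance
  let E : Set (D.obj i₀) :=
    {s | MoreMor.nGeomConnComp f₀ s = 0} ∪ {s | MoreMor.nGeomConnComp f₀ s = 1}
  have hE : Topology.IsLocallyConstructible E :=
    (Groth.Agent.Lib.Helper4.GCLocCons1.isLocallyConstructible_nGeomConnComp_eq f₀ 0).union
      (Groth.Agent.Lib.Helper4.GCLocCons1.isLocallyConstructible_nGeomConnComp_eq f₀ 1)
  have hEle : ∀ s : D.obj i₀, s ∈ E ↔ MoreMor.nGeomConnComp f₀ s ≤ 1 := by
    intro s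
    show (MoreMor.nGeomConnComp f₀ s = 0 ∨ MoreMor.nGeomConnComp f₀ s = 1) ↔ _
    rw [Order.le_one_iff]
  have hG : ProCons.IsProConstructible Eᶜ :=
    Groth.Agent.Helper7.ProConsLib.isProConstructible_compl
      (Groth.Agent.Helper7.ProConsLib.isIndConstructible_of_isLocallyConstructible hE)
  have hiff : ∀ (Ω : Type u) [Field Ω] [IsAlgClosed Ω]
      (t' : Spec (CommRingCat.of Ω) ⟶ D.obj i₀) (pt : ↥(Spec (CommRingCat.of Ω))),
      PreconnectedSpace ↥(pullback f₀ t') ↔ t' pt ∈ E := by
    intro Ω _ _ t' pt
    rw [hEle, nGeomConnComp_eq_card f₀ t' pt, preconnectedSpace_iff_card_le_one]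
  have hempty : (c.π.app i₀) ⁻¹' Eᶜ = ∅ := by
    rw [Set.eq_empty_iff_forall_notMem]
    intro s hs
    apply hs
    let K := c.pt.residueField s
    let Ω := AlgebraicClosure K
    let t : Spec (CommRingCat.of Ω) ⟶ c.pt :=
      Spec.map (CommRingCat.ofHom (algebraMap K Ω)) ≫ c.pt.fromSpecResidueField s
    let pt : ↥(Spec (CommRingCat.of Ω)) := (IsLocalRing.closedPoint Ω : PrimeSpectrum Ω)
    have htpt : t pt = s := by
      rw [Scheme.Hom.comp_apply, Scheme.fromSpecResidueField_apply]
    haveI h1 := hconn Ω t
    have hpb : IsPullback (pullback.fst f t ≫ q) (pullback.snd f t) f₀ (t ≫ c.π.app i₀) :=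
      (IsPullback.of_hasPullback f t).paste_horiz hX
    let e : pullback f t ≅ pullback f₀ (t ≫ c.π.app i₀) := hpb.isoPullback
    have h2 : PreconnectedSpace ↥(pullback f₀ (t ≫ c.π.app i₀)) := by
      have hsurj : Function.Surjective e.hom := by
        intro z
        refine ⟨e.inv z, ?_⟩
        rw [← Scheme.Hom.comp_apply, e.inv_hom_id]; rfl
      exact hsurj.denseRange.preconnectedSpace e.hom.continuous
    have h3 := (hiff Ω (t ≫ c.π.app i₀) pt).mp h2
    rw [Scheme.Hom.comp_apply, htpt] at h3
    exact h3
  obtain ⟨j, φ, hj⟩ :=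
    Groth.Agent.Helper7.LimConsPI.exists_map_preimage_eq_empty D c hc i₀ hG hempty
  refine ⟨j, φ, ?_⟩
  intro Ω _ _ t
  let pt : ↥(Spec (CommRingCat.of Ω)) := (IsLocalRing.closedPoint Ω : PrimeSpectrum Ω)
  rw [hiff Ω (t ≫ D.map φ) pt]
  by_contra hn
  have hmem : t pt ∈ (D.map φ) ⁻¹' Eᶜ := by
    show (D.map φ) (t pt) ∈ Eᶜ
    rw [← Scheme.Hom.comp_apply]
    exact hn
  rw [hj] at hmem
  exact hmem

end Groth.Agent.Helper7.LimGC
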